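import Groth.Agent.S0001
import Groth.Agent.S0711
import Groth.Agent.EtpbcA.PullFLC
import Groth.Agent.Etrest.ConstBasic
import Groth.Agent.Etcore.Torsion

/-!
# Higher direct images of a constant sheaf over the smooth locus of a proper morphism
-/

set_option autoImplicit false
universe u
open CategoryTheory CategoryTheory.Limits AlgebraicGeometry Opposite

namespace Groth.Agent.Lefpen.H916.FlcU

theorem isFLC_pull_Rpush {S Y : Scheme.{u}} (g : Y ⟶ S) [IsProper g] (U : S.Opens)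
    (hsm : Smooth (g ∣_ U)) (N : ℕ) (hN0 : 0 < N)
    (hN : ∀ (Ω : Type u) [Field Ω] [IsSepClosed Ω] (_ : Spec (CommRingCat.of Ω) ⟶ U), (N : Ω) ≠ 0)
    (q : ℕ) :
    EtCoh.IsFiniteLocallyConstant
      ((EtCoh.pull U.ι).obj ((EtCoh.Rpush g q).obj (EtCoh.const Y (ZMod N)))) := by
  have hN1 : NeZero N := ⟨hN0.ne'⟩
  have hk : EtCoh.KilledBy N (EtCoh.const Y (ZMod N)) :=
    Etrest.ConstBasic.killedBy_const Y (ZMod N) N (fun m => by simp)
  have hf : EtCoh.IsFiniteLocallyConstant (EtCoh.const Y (ZMod N)) :=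
    Etrest.ConstBasic.isFiniteLocallyConstant_const Y (ZMod N)
  have ht : EtCoh.IsTorsion (EtCoh.const Y (ZMod N)) :=
    Etrest.ConstBasic.isTorsion_of_killedBy hN0 hk
  obtain ⟨e⟩ := (Groth.Agent.S0001.result Y S _ _ g U.ι (g ∣_ U) (g ⁻¹ᵁ U).ι
    (isPullback_morphismRestrict g U).flip (EtCoh.const Y (ZMod N)) ht).1 q
  refine EtpbcA.PullFLC.isFLC_of_iso e.symm ?_
  have hp : IsProper (g ∣_ U) := inferInstance
  refine Groth.Agent.S0711.result (g ∣_ U) _ (EtpbcA.PullFLC.isFLC_pull (g ⁻¹ᵁ U).ι _ hf) ?_ q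
  intro Ω _ _ ξ
  refine ⟨N, hN0, hN Ω (ξ ≫ (g ∣_ U)), ?_⟩
  exact (Etcore.Torsion.killedBy_iff_stalk N _).1
    (Etcore.Torsion.killedBy_pull N (g ⁻¹ᵁ U).ι _ hk) Ω ξ

end Groth.Agent.Lefpen.H916.FlcU
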