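import Groth.Agent.Lefpen.H916.EdgeI

/-!
# The edge map `H^n(X ×_Y V, F) → Γ(V, R^n f_* F)`, existence
-/

set_option autoImplicit false
universe u
open CategoryTheory CategoryTheory.Limits AlgebraicGeometry Opposite Abelian
open scoped Groth.Agent.Etcore.EtInst
open Groth.Agent.Etcore.EtInst

namespace Groth.Agent.Lefpen.H916.EdgeJ

open Groth.Agent.Etcore Groth.Agent.Etcore.RpushLoc
open Groth.Agent.Lefpen.H916.Edge Groth.Agent.Lefpen.H916.EdgeC Groth.Agent.Lefpen.H916.EdgeH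
open Groth.Agent.Lefpen.H916.EdgeI Groth.Agent.Lefpen.H916.KT

variable {X Y : Scheme.{u}} (f : X ⟶ Y)

instance isIso_hom {R R' : EtCoh.Ab Y} (e : R ⟶ R') [IsIso e] : IsIso e.hom :=
  inferInstanceAs (IsIso ((sheafToPresheaf _ _).map e))

/-- **The edge map.** -/
theorem exists_edge (F : EtCoh.Ab X) (n : ℕ) :
    ∃ a : PT f F n ⟶ ((EtCoh.Rpush f n).obj F).obj, LocIso a := by
  have key : ∀ (m : ℕ) (F : EtCoh.Ab X),
      ∃ a : PT f F (m + 1) ⟶ ((EtCoh.Rpush f (m + 1)).obj F).obj, LocIso a := by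
    intro m
    induction m with
    | zero =>
      intro F
      obtain ⟨g, d, i₂, i₃, h1, h2, h3, h4⟩ := facts_one f (injSeq_shortExact F) inferInstance
      obtain ⟨a, ha⟩ := exists_one ((EtCoh.push f).map (injSeq F).g) i₂ i₃ g h1 d h2 h3 h4
      obtain ⟨e⟩ := DerLES.nonempty_iso_one_of_injective (EtCoh.push f) (injSeq_shortExact F)
      have h5 : IsIso e.inv.hom := isIso_hom e.inv
      exact ⟨a ≫ e.inv.hom, ha.comp_iso e.inv.hom⟩
    | succ m ih =>
      intro F
      obtain ⟨i⟩ := facts_succ f (injSeq_shortExact F) inferInstance m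
      obtain ⟨a, ha⟩ := ih (injSeq F).X₃
      obtain ⟨e⟩ := DerLES.nonempty_iso_succ (EtCoh.push f) (injSeq_shortExact F)
        (DerLES.acyc_of_injective _ _) m
      have h5 : IsIso e.inv.hom := isIso_hom e.inv
      exact ⟨i.inv ≫ a ≫ e.inv.hom, (ha.comp_iso e.inv.hom).iso_comp i.inv⟩
  obtain _ | n := n
  · obtain ⟨i, -⟩ := exists_iso0 f F
    have h1 : IsIso ((Functor.rightDerivedZeroIsoSelf (EtCoh.push f)).inv.app F).hom := inferInstance
    exact ⟨i.inv ≫ ((Functor.rightDerivedZeroIsoSelf (EtCoh.push f)).inv.app F).hom,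
      LocIso.of_iso _⟩
  · exact key n F

end Groth.Agent.Lefpen.H916.EdgeJ
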