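import Groth.Agent.Lefpen.H916.Rep
import Groth.Agent.Etcore.SecPull
import Groth.Agent.S0107

/-!
# Local representations of presheaves locally isomorphic to a sheaf with finite locally constant
restriction to an open subscheme
-/

set_option autoImplicit false
universe u
open CategoryTheory CategoryTheory.Limits AlgebraicGeometry Opposite

namespace Groth.Agent.Lefpen.H916.Repr

open Groth.Agent.Lefpen.H916.Rep Groth.Agent.Lefpen.H916.Edge Groth.Agent.Etcore.SecPull

variable {S S' : Scheme.{u}} (j : S' ⟶ S) [Etale j]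

/-- An étale `S'`-scheme as an étale `S`-scheme. -/
noncomputable def jO (W : S'.Etale) : S.Etale := mkE (W.hom ≫ j)

/-- The same for morphisms. -/
noncomputable def jM {W W' : S'.Etale} (k : W' ⟶ W) : jO j W' ⟶ jO j W :=
  MorphismProperty.Over.homMk k.left (by
    change k.left ≫ W.hom ≫ j = W'.hom ≫ j
    rw [← Category.assoc]; exact congrArg (· ≫ j) (Over.w k.hom))

theorem jM_left {W W' : S'.Etale} (k : W' ⟶ W) : (jM j k).left = k.left := rfl

variable (R : EtCoh.Ab S)

/-- Sections over `S'`-schemes. -/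
noncomputable def rho (W : S'.Etale) :
    R.obj.obj (op (jO j W)) ⟶ ((EtCoh.pull j).obj R).obj.obj (op W) :=
  sq j R (𝟙 W.left) (Category.id_comp _)

theorem rho_isIso (W : S'.Etale) : IsIso (rho j R W) :=
  sq_isIso_of_etale j R (V := jO j W) (𝟙 W.left) (Category.id_comp _) (IsIso.id _)

theorem rho_nat {W W' : S'.Etale} (k : W' ⟶ W) :
    R.obj.map (jM j k).op ≫ rho j R W' = rho j R W ≫ ((EtCoh.pull j).obj R).obj.map k.op := by
  rw [rho, rho, sq_precomp j R (V := jO j W) (𝟙 W.left) (Category.id_comp _) k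
    (by change (k.left ≫ 𝟙 _) ≫ W.hom ≫ j = W'.hom ≫ j
        rw [Category.comp_id, ← Category.assoc]; exact congrArg (· ≫ j) (Over.w k.hom))]
  rw [sq_postcomp j R (V := jO j W') (V' := jO j W) (𝟙 W'.left) (Category.id_comp _) (jM j k)
    (by change (𝟙 _ ≫ k.left) ≫ W.hom ≫ j = W'.hom ≫ j
        rw [Category.id_comp, ← Category.assoc]; exact congrArg (· ≫ j) (Over.w k.hom))]
  congr 1

theorem exists_iso {W : S'.Etale} {V : S.Etale} (k : V ⟶ jO j W) :
    ∃ (W' : S'.Etale) (k' : W' ⟶ W) (i : V ≅ jO j W'), i.hom ≫ jM j k' = k := by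
  obtain ⟨q, hq⟩ : ∃ q : V.left ⟶ W.left, q = k.left := ⟨k.left, rfl⟩
  have e4 : q ≫ W.hom ≫ j = V.hom := by rw [hq]; exact Over.w k.hom
  have e6 : Etale q := by rw [hq]; exact etale_left k
  have e8 : Etale W.hom := inferInstance
  have e7 : Etale (q ≫ W.hom) := inferInstance
  refine ⟨mkE (q ≫ W.hom), MorphismProperty.Over.homMk q rfl,
    MorphismProperty.Over.isoMk (Iso.refl _) ?_, ?_⟩
  · change 𝟙 _ ≫ (q ≫ W.hom) ≫ j = V.hom
    rw [Category.id_comp, Category.assoc, e4]
  · apply MorphismProperty.Over.Hom.ext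
    exact (Category.id_comp _).trans hq

section Main

variable {j} {K : (Over S)ᵒᵖ ⥤ AddCommGrpCat.{u + 1}} {R}
  (a : (Scheme.Etale.forget S).op ⋙ K ⟶ R.obj) (ha : LocIso a) (E : S'.Etale)
  (e : ((EtCoh.pull j).obj R).obj ⋙ forget AddCommGrpCat.{u + 1} ≅
    yoneda.obj E ⋙ uliftFunctor.{u + 1})

/-- The map to the sections of the restriction. -/
noncomputable def cs (W : S'.Etale) (x : KO K (W.hom ≫ j)) :
    ((EtCoh.pull j).obj R).obj.obj (op W) :=
  rho j R W (a.app (op (jO j W)) x)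

theorem cs_nat {W W' : S'.Etale} (k : W' ⟶ W) (h : k.left ≫ W.hom ≫ j = W'.hom ≫ j)
    (x : KO K (W.hom ≫ j)) :
    cs a W' (kr K k.left h x) = ((EtCoh.pull j).obj R).obj.map k.op (cs a W x) := by
  have h1 := ConcreteCategory.congr_hom (a.naturality (jM j k).op) x
  have h2 := ConcreteCategory.congr_hom (rho_nat j R k) (a.app (op (jO j W)) x)
  exact (congrArg (rho j R W') h1).trans h2

theorem rho_bijective (W : S'.Etale) : Function.Bijective (rho j R W) := by
  have := rho_isIso j R W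
  exact ConcreteCategory.bijective_of_isIso (rho j R W)

include ha in
theorem cs_inj (W : S'.Etale) (x x' : KO K (W.hom ≫ j)) (h : cs a W x = cs a W x') (w : W.left) :
    ∃ (W' : S'.Etale) (k : W' ⟶ W) (w' : W'.left), k.left w' = w ∧
      ∀ h : k.left ≫ W.hom ≫ j = W'.hom ≫ j, kr K k.left h x = kr K k.left h x' := by
  have h1 : a.app (op (jO j W)) x = a.app (op (jO j W)) x' := (rho_bijective W).1 h
  have h2 : a.app (op (jO j W)) (x - x') = 0 :=
    ((map_sub (ConcreteCategory.hom (a.app (op (jO j W)))) x x')).trans (sub_eq_zero.2 h1)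
  obtain ⟨V', k, v', hv, h3⟩ := ha.inj (jO j W) (x - x') h2 w
  obtain ⟨W', k', i, rfl⟩ := exists_iso j k
  refine ⟨W', k', i.hom.left v', ?_, ?_⟩
  · rw [← hv]
    rfl
  · intro h
    have h4 : ((Scheme.Etale.forget S).op ⋙ K).map (jM j k').op (x - x') = 0 := by
      have h5 : jM j k' = i.inv ≫ i.hom ≫ jM j k' := by rw [Iso.inv_hom_id_assoc]
      rw [h5, op_comp, Functor.map_comp]
      refine (congrArg (((Scheme.Etale.forget S).op ⋙ K).map i.inv.op) h3).trans ?_
      exact map_zero _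
    have h6 : kr K k'.left h (x - x') = 0 := h4
    rwa [map_sub, sub_eq_zero] at h6

include ha in
theorem cs_surj (W : S'.Etale) (t : ((EtCoh.pull j).obj R).obj.obj (op W)) (w : W.left) :
    ∃ (W' : S'.Etale) (k : W' ⟶ W) (w' : W'.left), k.left w' = w ∧
      ∃ x : KO K (W'.hom ≫ j), cs a W' x = ((EtCoh.pull j).obj R).obj.map k.op t := by
  obtain ⟨t', rfl⟩ := (rho_bijective W).2 t
  obtain ⟨V', k, v', hv, x, h3⟩ := ha.surj (jO j W) t' w
  obtain ⟨W', k', i, rfl⟩ := exists_iso j k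
  refine ⟨W', k', i.hom.left v', ?_, ((Scheme.Etale.forget S).op ⋙ K).map i.inv.op x, ?_⟩
  · rw [← hv]
    rfl
  · have h4 : a.app (op (jO j W')) (((Scheme.Etale.forget S).op ⋙ K).map i.inv.op x) =
        R.obj.map (jM j k').op t' := by
      have h5 : jM j k' = i.inv ≫ i.hom ≫ jM j k' := by rw [Iso.inv_hom_id_assoc]
      refine (ConcreteCategory.congr_hom (a.naturality i.inv.op) x).trans ?_
      refine (congrArg (R.obj.map i.inv.op) h3).trans ?_
      conv_rhs => rw [h5, op_comp, Functor.map_comp]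
      rfl
    refine (congrArg (rho j R W') h4).trans ?_
    exact ConcreteCategory.congr_hom (rho_nat j R k') t'

theorem cs_nsmul (W : S'.Etale) (x : KO K (W.hom ≫ j)) (M : ℕ) :
    cs a W (M • x) = M • cs a W x := by
  have h1 : a.app (op (jO j W)) (M • x) = M • a.app (op (jO j W)) x := map_nsmul _ M x
  exact (congrArg (rho j R W) h1).trans (map_nsmul _ M _)

end Main

section Fin

variable (G : S'.Etaleᵒᵖ ⥤ AddCommGrpCat.{u + 1}) (E : S'.Etale)
  (e : G ⋙ forget AddCommGrpCat.{u + 1} ≅ yoneda.obj E ⋙ uliftFunctor.{u + 1})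

/-- The morphism of a section. -/
noncomputable def mo (W : S'.Etale) (t : G.obj (op W)) : W ⟶ E :=
  (e.hom.app (op W) t).down

theorem mo_nat {W W' : S'.Etale} (k : W' ⟶ W) (t : G.obj (op W)) :
    mo G E e W' (G.map k.op t) = k ≫ mo G E e W t := by
  have h := ConcreteCategory.congr_hom (e.hom.naturality k.op) t
  exact congrArg ULift.down h

theorem mo_bijective (W : S'.Etale) : Function.Bijective (mo G E e W) := by
  have h : Function.Bijective (e.hom.app (op W)) := (ConcreteCategory.isIso_iff_bijective _).1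
    inferInstance
  exact ULift.down_bijective.comp h

theorem mo_mul (M : ℕ) : ∃ μ : E ⟶ E, ∀ (W : S'.Etale) (t : G.obj (op W)),
    mo G E e W (M • t) = mo G E e W t ≫ μ := by
  obtain ⟨t₀, ht₀⟩ := (mo_bijective G E e E).2 (𝟙 E)
  refine ⟨mo G E e E (M • t₀), fun W t => ?_⟩
  have h1 : t = G.map (mo G E e W t).op t₀ := by
    apply (mo_bijective G E e W).1
    rw [mo_nat, ht₀, Category.comp_id]
  rw [← mo_nat, map_nsmul, ← h1]

end Fin

theorem nonempty_locRep (K : (Over S)ᵒᵖ ⥤ AddCommGrpCat.{u + 1}) (R : EtCoh.Ab S)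
    (a : (Scheme.Etale.forget S).op ⋙ K ⟶ R.obj) (ha : LocIso a)
    (hR : EtCoh.IsFiniteLocallyConstant ((EtCoh.pull j).obj R)) : Nonempty (LocRep K j) := by
  obtain ⟨E, hE, ⟨e⟩⟩ := Groth.Agent.S0107.result _ hR
  refine ⟨{
    E := E
    fin := hE
    c := fun W x => mo _ E e W (cs a W x)
    nat := fun k h x => by rw [cs_nat, mo_nat]
    inj := fun W x x' h w => cs_inj a ha W x x' ((mo_bijective _ E e W).1 h) w
    surj := ?_
    mul := ?_ }⟩
  · intro W s w
    obtain ⟨t, rfl⟩ := (mo_bijective _ E e W).2 s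
    obtain ⟨W', k, w', hw, x, hx⟩ := cs_surj a ha W t w
    exact ⟨W', k, w', hw, x, by rw [hx, mo_nat]⟩
  · intro M
    obtain ⟨μ, hμ⟩ := mo_mul _ E e M
    exact ⟨μ, fun W x => by rw [cs_nsmul, hμ]⟩

end Groth.Agent.Lefpen.H916.Repr
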