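import Groth.Agent.Lefpen.H916.ThetaA
import Groth.Agent.Lefpen.H916.Repr
import Groth.Agent.Lefpen.H916.EdgeJ

/-!
# `Theta` from the finiteness and local constancy of `R^q g_* F` over `U`
-/

set_option autoImplicit false
universe u
open CategoryTheory CategoryTheory.Limits AlgebraicGeometry Opposite

namespace Groth.Agent.Lefpen.H916.Theta

open Groth.Agent.Lefpen.H916.Rep Groth.Agent.Lefpen.H916.KT Groth.Agent.Lefpen.H916.ThetaDef

theorem nonempty_theta_of_flc {S Y : Scheme.{u}} (g : Y ⟶ S) (F : EtCoh.Ab Y) (q : ℕ) (U : S.Opens)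
    (hR : EtCoh.IsFiniteLocallyConstant ((EtCoh.pull U.ι).obj ((EtCoh.Rpush g q).obj F)))
    (h₁ : NbSurj g F q) (h₂ : NbInj g F q) : Nonempty (Theta g F q U) := by
  obtain ⟨a, ha⟩ := EdgeJ.exists_edge g F q
  obtain ⟨r⟩ := Repr.nonempty_locRep (j := U.ι) (KT g F q) _ a ha hR
  exact ThetaA.nonempty_theta g F q U r h₁ h₂

end Groth.Agent.Lefpen.H916.Theta
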