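import Groth.Agent.Lefpen.H712.HT

/-!
# The finite étale cover representing `R^q g_* F` over an open subset

`Theta g F q U`: a finite étale `p : E ⟶ U` whose geometric points over `ξ` are the classes in
`H^q(Y ×_S ξ, F)`, naturally.
-/

set_option autoImplicit false
universe u
open CategoryTheory CategoryTheory.Limits AlgebraicGeometry Opposite
open Groth.Agent.Lefpen.H712.HT

namespace Groth.Agent.Lefpen.H916.ThetaDef

/-- The cover `E ⟶ U` with `Hom_U(Spec Ω, E) = H^q(Y_Ω, F)`; `rel ξ e z` says that the point `e`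
corresponds to the class `z`. -/
structure Theta {S Y : Scheme.{u}} (g : Y ⟶ S) (F : EtCoh.Ab Y) (q : ℕ) (U : S.Opens) where
  E : Scheme.{u}
  p : E ⟶ (U : Scheme.{u})
  isFinite : IsFinite p
  etale : Etale p
  rel : ∀ {Ω : Type u} [Field Ω] [IsSepClosed Ω] (ξ : Spec (CommRingCat.of Ω) ⟶ S)
    (_ : Spec (CommRingCat.of Ω) ⟶ E) (_ : HT g F ξ q), Prop
  over : ∀ {Ω : Type u} [Field Ω] [IsSepClosed Ω] (ξ : Spec (CommRingCat.of Ω) ⟶ S)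
    (e : Spec (CommRingCat.of Ω) ⟶ E) (z : HT g F ξ q), rel ξ e z → e ≫ p ≫ U.ι = ξ
  exists_e : ∀ {Ω : Type u} [Field Ω] [IsSepClosed Ω] (ξ : Spec (CommRingCat.of Ω) ⟶ S)
    (_ : ξ default ∈ U) (z : HT g F ξ q), ∃ e, rel ξ e z
  exists_z : ∀ {Ω : Type u} [Field Ω] [IsSepClosed Ω] (e : Spec (CommRingCat.of Ω) ⟶ E),
    ∃ z, rel (e ≫ p ≫ U.ι) e z
  unique_e : ∀ {Ω : Type u} [Field Ω] [IsSepClosed Ω] (ξ : Spec (CommRingCat.of Ω) ⟶ S)
    (e e' : Spec (CommRingCat.of Ω) ⟶ E) (z : HT g F ξ q), rel ξ e z → rel ξ e' z → e = e'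
  unique_z : ∀ {Ω : Type u} [Field Ω] [IsSepClosed Ω] (ξ : Spec (CommRingCat.of Ω) ⟶ S)
    (e : Spec (CommRingCat.of Ω) ⟶ E) (z z' : HT g F ξ q), rel ξ e z → rel ξ e z' → z = z'
  nat : ∀ {Ω : Type u} [Field Ω] [IsSepClosed Ω] {Ω' : Type u} [Field Ω'] [IsSepClosed Ω']
    (φ : Spec (CommRingCat.of Ω') ⟶ Spec (CommRingCat.of Ω)) (ξ : Spec (CommRingCat.of Ω) ⟶ S)
    (e : Spec (CommRingCat.of Ω) ⟶ E) (z : HT g F ξ q), rel ξ e z →
    rel (φ ≫ ξ) (φ ≫ e) (rs g F φ rfl q z)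
  sec : ∀ (V : S.Etale) (b : V.left ⟶ (U : Scheme.{u})) (_ : b ≫ U.ι = V.hom)
    (x : HT g F V.hom q), ∃ s : V.left ⟶ E, s ≫ p = b ∧
      ∀ {Ω : Type u} [Field Ω] [IsSepClosed Ω] (v : Spec (CommRingCat.of Ω) ⟶ V.left),
        rel (v ≫ V.hom) (v ≫ s) (rs g F v rfl q x)
  mul : ∀ M : ℕ, ∃ μ : E ⟶ E, μ ≫ p = p ∧
    ∀ {Ω : Type u} [Field Ω] [IsSepClosed Ω] (ξ : Spec (CommRingCat.of Ω) ⟶ S)
      (e : Spec (CommRingCat.of Ω) ⟶ E) (z : HT g F ξ q), rel ξ e z → rel ξ (e ≫ μ) (M • z)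

/-- Classes over a strictly henselian local `S`-scheme come from étale `S`-schemes. -/
def NbSurj {S Y : Scheme.{u}} (g : Y ⟶ S) (F : EtCoh.Ab Y) (q : ℕ) : Prop :=
  ∀ (R : Type u) [CommRing R] [IsLocalRing R] (_ : EtCoh.IsStrictlyHenselianLocalRing R)
    (γ : Spec (CommRingCat.of R) ⟶ S) (x : HT g F γ q),
    ∃ (V : S.Etale) (γ' : Spec (CommRingCat.of R) ⟶ V.left) (h : γ' ≫ V.hom = γ)
      (y : HT g F V.hom q), rs g F γ' h q y = x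

/-- Classes over an étale `S`-scheme dying over a strictly henselian local `S`-scheme die on
a smaller étale `S`-scheme. -/
def NbInj {S Y : Scheme.{u}} (g : Y ⟶ S) (F : EtCoh.Ab Y) (q : ℕ) : Prop :=
  ∀ (R : Type u) [CommRing R] [IsLocalRing R] (_ : EtCoh.IsStrictlyHenselianLocalRing R)
    (γ : Spec (CommRingCat.of R) ⟶ S) (V : S.Etale) (γ' : Spec (CommRingCat.of R) ⟶ V.left)
    (h : γ' ≫ V.hom = γ) (y : HT g F V.hom q), rs g F γ' h q y = 0 →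
    ∃ (V' : S.Etale) (k : V' ⟶ V) (γ'' : Spec (CommRingCat.of R) ⟶ V'.left),
      γ'' ≫ k.left = γ' ∧ rs g F k.left (Over.w k.hom) q y = 0

end Groth.Agent.Lefpen.H916.ThetaDef
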