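import Groth.Agent.Lefpen.H712.HT

/-!
# Sections of higher direct images attached to cohomology classes

`HP f F n` is the presheaf `V ↦ H^n(X ×_Y V, F)` on the étale site of `Y`.
`LocIso a`: the morphism `a : P ⟶ R` of presheaves is locally injective and locally surjective
(pointwise form). `exists_edge`: there is such a morphism `HP f F n ⟶ R^n f_* F`.
-/

set_option autoImplicit false
universe u
open CategoryTheory CategoryTheory.Limits AlgebraicGeometry Opposite Abelian
open scoped Groth.Agent.Etcore.EtInst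
open Groth.Agent.Etcore.EtInst

namespace Groth.Agent.Lefpen.H916.Edge

open Groth.Agent.Etcore Groth.Agent.Etcore.HQ Groth.Agent.Etcore.RpushLoc Groth.Agent.EtpbcA.StalkTools

variable {X Y : Scheme.{u}}

/-- A section killed by the projection to the cokernel is locally in the image. -/
theorem locIm_of_cokernel {G F : EtCoh.Ab Y} (φ : G ⟶ F) {V : Y.Etale} (s : EtCoh.sect F V)
    (hs : (cokernel.π φ).hom.app (op V) s = 0) (v : V.left) : LocIm φ s v := by
  obtain ⟨Ω, _, _, ζ, rfl⟩ := exists_geomPt v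
  refine (locIm_iff (ζ ≫ V.hom) φ s (fibMk ζ)).2 ?_
  let S : ShortComplex (EtCoh.Ab Y) := ShortComplex.mk φ (cokernel.π φ) (cokernel.condition φ)
  have hS : S.Exact := ShortComplex.exact_cokernel φ
  have h1 : (S.map (EtCoh.stalk (ζ ≫ V.hom))).Exact := hS.map (EtCoh.stalk (ζ ≫ V.hom))
  rw [ShortComplex.ab_exact_iff] at h1
  refine h1 (germ (ζ ≫ V.hom) (fibMk ζ) s) ?_
  change (EtCoh.stalk (ζ ≫ V.hom)).map (cokernel.π φ) (germ (ζ ≫ V.hom) (fibMk ζ) s) = 0
  rw [stalk_map_germ, hs]
  exact map_zero _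

section Abstract

/-- Locally injective and locally surjective morphisms of presheaves. -/
structure LocIso {P R : Y.Etaleᵒᵖ ⥤ AddCommGrpCat.{u + 1}} (a : P ⟶ R) : Prop where
  inj : ∀ (V : Y.Etale) (x : P.obj (op V)), a.app (op V) x = 0 → ∀ v : V.left,
    ∃ (V' : Y.Etale) (k : V' ⟶ V) (v' : V'.left), k.left v' = v ∧ P.map k.op x = 0
  surj : ∀ (V : Y.Etale) (s : R.obj (op V)) (v : V.left),
    ∃ (V' : Y.Etale) (k : V' ⟶ V) (v' : V'.left), k.left v' = v ∧
      ∃ x : P.obj (op V'), a.app (op V') x = R.map k.op s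

variable {P P' Q R R' : Y.Etaleᵒᵖ ⥤ AddCommGrpCat.{u + 1}}

theorem LocIso.of_iso (a : P ⟶ R) [IsIso a] : LocIso a where
  inj := by
    intro V x hx v
    refine ⟨V, 𝟙 V, v, rfl, ?_⟩
    have h : x = 0 :=
      ((ConcreteCategory.isIso_iff_bijective (a.app (op V))).1 inferInstance).1
        (hx.trans (map_zero _).symm)
    rw [h, map_zero]
  surj := by
    intro V s v
    obtain ⟨x, hx⟩ := ((ConcreteCategory.isIso_iff_bijective (a.app (op V))).1 inferInstance).2 s
    refine ⟨V, 𝟙 V, v, rfl, x, ?_⟩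
    rw [hx, op_id, CategoryTheory.Functor.map_id]
    rfl

theorem LocIso.comp_iso {a : P ⟶ R} (h : LocIso a) (b : R ⟶ R') [IsIso b] : LocIso (a ≫ b) where
  inj := by
    intro V x hx v
    refine h.inj V x ?_ v
    exact ((ConcreteCategory.isIso_iff_bijective (b.app (op V))).1 inferInstance).1
        (hx.trans (map_zero _).symm)
  surj := by
    intro V s v
    obtain ⟨s', hs'⟩ := ((ConcreteCategory.isIso_iff_bijective (b.app (op V))).1 inferInstance).2 s
    obtain ⟨V', k, v', hv, x, hx⟩ := h.surj V s' v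
    refine ⟨V', k, v', hv, x, ?_⟩
    change b.app (op V') (a.app (op V') x) = _
    rw [hx, ← hs']
    exact ConcreteCategory.congr_hom (b.naturality k.op) s'

theorem LocIso.iso_comp {a : P ⟶ R} (h : LocIso a) (b : P' ⟶ P) [IsIso b] : LocIso (b ≫ a) where
  inj := by
    intro V x hx v
    obtain ⟨V', k, v', hv, hx'⟩ := h.inj V (b.app (op V) x) hx v
    refine ⟨V', k, v', hv, ?_⟩
    have h2 := ConcreteCategory.congr_hom (b.naturality k.op) x
    refine ((ConcreteCategory.isIso_iff_bijective (b.app (op V'))).1 inferInstance).1 ?_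
    rw [map_zero]
    refine h2.trans ?_
    exact hx'
  surj := by
    intro V s v
    obtain ⟨V', k, v', hv, x, hx⟩ := h.surj V s v
    obtain ⟨x', hx'⟩ := ((ConcreteCategory.isIso_iff_bijective (b.app (op V'))).1 inferInstance).2 x
    refine ⟨V', k, v', hv, x', ?_⟩
    change a.app (op V') (b.app (op V') x') = _
    rw [hx', hx]

/-- Descend a morphism of presheaves along a surjective one. -/
theorem exists_desc (d : Q ⟶ P) (c : Q ⟶ R)
    (hd : ∀ V : Y.Etale, Function.Surjective (d.app (op V)))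
    (hc : ∀ (V : Y.Etale) (y : Q.obj (op V)), d.app (op V) y = 0 → c.app (op V) y = 0) :
    ∃ a : P ⟶ R, d ≫ a = c := by
  have hc' : ∀ (V : Y.Etale) (y y' : Q.obj (op V)), d.app (op V) y = d.app (op V) y' →
      c.app (op V) y = c.app (op V) y' := by
    intro V y y' h
    have h1 := hc V (y - y') (by rw [map_sub, h, sub_self])
    rwa [map_sub, sub_eq_zero] at h1
  choose σ hσ using hd
  have key : ∀ (V : Y.Etale) (y : Q.obj (op V)), c.app (op V) (σ V (d.app (op V) y)) = c.app (op V) y :=
    fun V y => hc' V _ _ (hσ V _)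
  let a : P ⟶ R :=
    { app := fun V => AddCommGrpCat.ofHom (AddMonoidHom.mk' (fun x => c.app V (σ V.unop x)) (by
        intro x y
        rw [← map_add]
        refine hc' V.unop _ _ ?_
        rw [map_add, hσ, hσ, hσ]))
      naturality := by
        intro V V' k
        ext x
        change c.app V' (σ V'.unop (P.map k x)) = R.map k (c.app V (σ V.unop x))
        have h1 := ConcreteCategory.congr_hom (c.naturality k) (σ V.unop x)
        refine Eq.trans ?_ h1
        change _ = c.app V' (Q.map k (σ V.unop x))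
        refine hc' V'.unop _ _ ?_
        rw [hσ]
        have h2 := ConcreteCategory.congr_hom (d.naturality k) (σ V.unop x)
        refine Eq.trans ?_ h2.symm
        change P.map k x = P.map k (d.app V (σ V.unop x))
        rw [hσ] }
  refine ⟨a, ?_⟩
  ext V y
  exact key V.unop y

/-- The step in degree one. -/
theorem exists_one {R₂ R₃ : EtCoh.Ab Y} (φ : R₂ ⟶ R₃) {P₂ P₃ P₁ : Y.Etaleᵒᵖ ⥤ AddCommGrpCat.{u + 1}}
    (i₂ : P₂ ≅ R₂.obj) (i₃ : P₃ ≅ R₃.obj) (g : P₂ ⟶ P₃) (hg : g ≫ i₃.hom = i₂.hom ≫ φ.hom)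
    (d : P₃ ⟶ P₁) (hd : ∀ V : Y.Etale, Function.Surjective (d.app (op V)))
    (hgd : g ≫ d = 0)
    (hex : ∀ (V : Y.Etale) (y : P₃.obj (op V)), d.app (op V) y = 0 → ∃ z, g.app (op V) z = y) :
    ∃ a : P₁ ⟶ (cokernel φ).obj, LocIso a := by
  obtain ⟨a, ha⟩ := exists_desc d (i₃.hom ≫ (cokernel.π φ).hom) hd (by
    intro V y hy
    obtain ⟨z, rfl⟩ := hex V y hy
    have h1 := ConcreteCategory.congr_hom (congrArg (fun t => t.app (op V)) hg) z
    have h2 := congrArg (fun t => t.hom.app (op V) (i₂.hom.app (op V) z)) (cokernel.condition φ)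
    change (cokernel.π φ).hom.app (op V) (i₃.hom.app (op V) (g.app (op V) z)) = 0
    refine Eq.trans (congrArg ((cokernel.π φ).hom.app (op V)) h1) ?_
    exact h2)
  have ha' : ∀ (V : Y.Etale) (y : P₃.obj (op V)),
      a.app (op V) (d.app (op V) y) = (cokernel.π φ).hom.app (op V) (i₃.hom.app (op V) y) :=
    fun V y => ConcreteCategory.congr_hom (congrArg (fun t => t.app (op V)) ha) y
  refine ⟨a, ⟨?_, ?_⟩⟩
  · intro V x hx v
    obtain ⟨y, rfl⟩ := hd V x
    rw [ha'] at hx
    obtain ⟨V', k, v', hv, t, ht⟩ := locIm_of_cokernel φ _ hx v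
    refine ⟨V', k, v', hv, ?_⟩
    have h1 := ConcreteCategory.congr_hom (d.naturality k.op) y
    refine Eq.trans h1.symm ?_
    have h2 : P₃.map k.op y = g.app (op V') (i₂.inv.app (op V') t) := by
      refine ((ConcreteCategory.isIso_iff_bijective (i₃.hom.app (op V'))).1 inferInstance).1 ?_
      have h3 := ConcreteCategory.congr_hom (i₃.hom.naturality k.op) y
      refine Eq.trans h3 ?_
      refine Eq.trans ht.symm ?_
      have h4 := ConcreteCategory.congr_hom (congrArg (fun t => t.app (op V')) hg)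
        (i₂.inv.app (op V') t)
      refine Eq.trans ?_ h4.symm
      have h5 := ConcreteCategory.congr_hom (congrArg (fun t => t.app (op V')) i₂.inv_hom_id) t
      exact (congrArg (φ.hom.app (op V')) h5).symm
    have h6 := congrArg (d.app (op V')) h2
    refine Eq.trans h6 ?_
    exact ConcreteCategory.congr_hom (congrArg (fun t => t.app (op V')) hgd) (i₂.inv.app (op V') t)
  · intro V s v
    obtain ⟨V', k, v', hv, t, ht⟩ := (epi_iff_locIm (cokernel.π φ)).1 inferInstance V s v
    refine ⟨V', k, v', hv, d.app (op V') (i₃.inv.app (op V') t), ?_⟩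
    rw [ha', ← ht]
    have h5 := ConcreteCategory.congr_hom (congrArg (fun t => t.app (op V')) i₃.inv_hom_id) t
    exact congrArg ((cokernel.π φ).hom.app (op V')) h5

end Abstract

end Groth.Agent.Lefpen.H916.Edge
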