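import Groth.Agent.Lefpen.H712.HT
import Groth.Agent.Etcore.HpVia

/-!
# The functor `T ↦ H^n(X ×_Y T, F)` on schemes over `Y`
-/

set_option autoImplicit false
universe u
open CategoryTheory CategoryTheory.Limits AlgebraicGeometry Opposite Abelian
open scoped Groth.Agent.Etcore.EtInst
open Groth.Agent.Etcore.EtInst

namespace Groth.Agent.Lefpen.H916.KT

open Groth.Agent.Etcore Groth.Agent.Etcore.HQ Groth.Agent.Lefpen.H712.HT

attribute [local instance] pfl

/-- `res` is bijective when `hp` is. -/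
theorem res_bijective_iff {X Z Z' : Scheme.{u}} (F : EtCoh.Ab X) {q : Z ⟶ X} {q' : Z' ⟶ X}
    (k : Z' ⟶ Z) (h : k ≫ q = q') (n : ℕ) :
    Function.Bijective (res F k h n) ↔
      Function.Bijective (HpullCalc.hp k ((EtCoh.pull q).obj F) n) := by
  have h0 : IsIso (PullCoh.th k q q' h F) := inferInstance
  have h1 : Function.Bijective (HHmap (PullCoh.th k q q' h F) n) := HHmap_bijective _ n
  have h2 : ⇑(res F k h n) = ⇑(HHmap (PullCoh.th k q q' h F) n) ∘
      ⇑(HpullCalc.hp k ((EtCoh.pull q).obj F) n) := rfl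
  rw [h2]
  exact Function.Bijective.of_comp_iff' h1 _

theorem res_id' {X Z : Scheme.{u}} (F : EtCoh.Ab X) (q : Z ⟶ X) (n : ℕ) (x : HQ F q n) :
    res F (𝟙 Z) (Category.id_comp q) n x = x := by
  have h1 : Function.Bijective (res F (𝟙 Z) (Category.id_comp q) n) :=
    (res_bijective_iff F (𝟙 Z) _ n).2 (HpVia.hp_id_bijective Z _ n)
  apply h1.1
  exact res_res F (𝟙 Z) (Category.id_comp q) (𝟙 Z) (Category.id_comp q) (𝟙 Z) (Category.id_comp _)
    (Category.id_comp q) n x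

variable {X Y : Scheme.{u}} (f : X ⟶ Y) (F : EtCoh.Ab X)

theorem rs_id {T : Scheme.{u}} (t : T ⟶ Y) (n : ℕ) :
    rs f F (𝟙 T) (Category.id_comp t) n = AddMonoidHom.id _ := by
  refine AddMonoidHom.ext fun x => ?_
  exact (res_congr F (bm_id f t) _ (Category.id_comp _) n x).trans (res_id' F _ n x)

theorem rs_comp {T T' T'' : Scheme.{u}} {t : T ⟶ Y} {t' : T' ⟶ Y} {t'' : T'' ⟶ Y} (φ : T' ⟶ T)
    (h : φ ≫ t = t') (ψ : T'' ⟶ T') (h' : ψ ≫ t' = t'') (h'' : (ψ ≫ φ) ≫ t = t'') (n : ℕ) :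
    rs f F (ψ ≫ φ) h'' n = (rs f F ψ h' n).comp (rs f F φ h n) :=
  AddMonoidHom.ext fun x => (rs_rs f F φ h ψ h' (ψ ≫ φ) rfl h'' n x).symm

/-- The functor `T ↦ H^n(X ×_Y T, F)` on schemes over `Y`. -/
noncomputable def KT (n : ℕ) : (Over Y)ᵒᵖ ⥤ AddCommGrpCat.{u + 1} where
  obj T := AddCommGrpCat.of (HT f F T.unop.hom n)
  map {T T'} φ := AddCommGrpCat.ofHom (rs f F φ.unop.left (Over.w φ.unop) n)
  map_id T := congrArg AddCommGrpCat.ofHom (rs_id f F T.unop.hom n)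
  map_comp {T T' T''} φ ψ :=
    congrArg AddCommGrpCat.ofHom (rs_comp f F φ.unop.left (Over.w φ.unop) ψ.unop.left
      (Over.w ψ.unop) (Over.w (ψ.unop ≫ φ.unop)) n)

theorem KT_map_apply {T T' : Over Y} (φ : T' ⟶ T) (n : ℕ) (x : HT f F T.hom n) :
    (KT f F n).map φ.op x = rs f F φ.left (Over.w φ) n x := rfl

end Groth.Agent.Lefpen.H916.KT
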