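import Groth.Agent.Lefpen.H916.Edge
import Groth.Agent.Lefpen.H916.KT
import Groth.Agent.EtpbcB.BCCalc

/-!
# The presheaf `V ↦ H^n(X ×_Y V, F)` and the edge map to `R^n f_* F`
-/

set_option autoImplicit false
universe u
open CategoryTheory CategoryTheory.Limits AlgebraicGeometry Opposite Abelian
open scoped Groth.Agent.Etcore.EtInst
open Groth.Agent.Etcore.EtInst

namespace Groth.Agent.Lefpen.H916.EdgeC

open Groth.Agent.Etcore Groth.Agent.Etcore.HQ Groth.Agent.Etcore.RpushLoc Groth.Agent.EtpbcA.StalkTools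
open Groth.Agent.Lefpen.H916.Edge Groth.Agent.Lefpen.H916.KT Groth.Agent.Lefpen.H712.HT
open Groth.Agent.EtpbcB

attribute [local instance] pfl

variable {X Y : Scheme.{u}} (f : X ⟶ Y)

/-- The presheaf `V ↦ H^n(X ×_Y V, F)` on the étale site. -/
noncomputable abbrev PT (F : EtCoh.Ab X) (n : ℕ) : Y.Etaleᵒᵖ ⥤ AddCommGrpCat.{u + 1} :=
  (Scheme.Etale.forget Y).op ⋙ KT f F n

/-- The comparison `X ×_Y V ≅ V ×_Y X`. -/
noncomputable def cc (V : Y.Etale) : pullback f V.hom ⟶ ((EtCoh.bc f).obj V).left :=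
  (BCCalc.isPullback_pr f V).lift (pullback.snd f V.hom) (pullback.fst f V.hom)
    pullback.condition.symm

theorem cc_hom (V : Y.Etale) : cc f V ≫ ((EtCoh.bc f).obj V).hom = pullback.fst f V.hom :=
  (BCCalc.isPullback_pr f V).lift_snd _ _ _

theorem cc_pr (V : Y.Etale) : cc f V ≫ BCCalc.pr f V = pullback.snd f V.hom :=
  (BCCalc.isPullback_pr f V).lift_fst _ _ _

theorem isIso_lift {C : Type*} [Category* C] {P P' A B Z : C} {a : P ⟶ A} {b : P ⟶ B} {a' : P' ⟶ A}
    {b' : P' ⟶ B} {c : A ⟶ Z} {d : B ⟶ Z} (h : IsPullback a b c d) (h' : IsPullback a' b' c d)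
    (m : P ⟶ P') (hm : m ≫ a' = a) (hm' : m ≫ b' = b) : IsIso m := by
  refine ⟨h.lift a' b' h'.w, ?_, ?_⟩
  · apply h.hom_ext
    · rw [Category.assoc, h.lift_fst, hm, Category.id_comp]
    · rw [Category.assoc, h.lift_snd, hm', Category.id_comp]
  · apply h'.hom_ext
    · rw [Category.assoc, hm, h.lift_fst, Category.id_comp]
    · rw [Category.assoc, hm', h.lift_snd, Category.id_comp]

instance (V : Y.Etale) : IsIso (cc f V) :=
  isIso_lift (IsPullback.of_hasPullback f V.hom).flip (BCCalc.isPullback_pr f V) (cc f V)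
    (cc_pr f V) (cc_hom f V)

theorem bm_cc {V V' : Y.Etale} (k : V' ⟶ V) :
    bm f k.left (Over.w k.hom) ≫ cc f V = cc f V' ≫ ((EtCoh.bc f).map k).left := by
  apply (BCCalc.isPullback_pr f V).hom_ext
  · rw [Category.assoc, Category.assoc, cc_pr, bm_snd, BCCalc.bc_map_left_pr, ← Category.assoc, cc_pr]
  · rw [Category.assoc, Category.assoc, cc_hom, bm_fst, BCCalc.left_hom, cc_hom]

/-- The class in `H^0(X ×_Y V, F)` of a section of `F` over `V ×_Y X`. -/
noncomputable def secT (F : EtCoh.Ab X) (V : Y.Etale) :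
    EtCoh.sect F ((EtCoh.bc f).obj V) →+ HT f F V.hom 0 :=
  AddMonoidHom.mk' (sec F (pullback.fst f V.hom) (cc f V) (cc_hom f V))
    fun a b => sec_add F _ _ _ a b

theorem secT_apply (F : EtCoh.Ab X) (V : Y.Etale) (s : EtCoh.sect F ((EtCoh.bc f).obj V)) :
    secT f F V s = sec F (pullback.fst f V.hom) (cc f V) (cc_hom f V) s := rfl

theorem secT_bijective (F : EtCoh.Ab X) (V : Y.Etale) : Function.Bijective (secT f F V) := by
  have h1 : Function.Bijective (res F (cc f V) (cc_hom f V) 0) :=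
    (res_bijective_iff F (cc f V) (cc_hom f V) 0).2 (HpVia.hp_bijective_of_isIso _ _ _)
  have h2 : ⇑(secT f F V) = ⇑(res F (cc f V) (cc_hom f V) 0) ∘ (secP f F V) := by
    funext s
    exact (res_sec F (cc f V) (cc_hom f V) (𝟙 _) (Category.id_comp _) (cc f V) (cc_hom f V)
      (Category.comp_id _) s).symm
  rw [h2]
  exact h1.comp (secP_bijective f F V)

theorem secT_nat (F : EtCoh.Ab X) {V V' : Y.Etale} (k : V' ⟶ V)
    (s : EtCoh.sect F ((EtCoh.bc f).obj V)) :
    secT f F V' (F.obj.map ((EtCoh.bc f).map k).op s) =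
      rs f F k.left (Over.w k.hom) 0 (secT f F V s) := by
  rw [secT_apply, secT_apply]
  refine (sec_res F (pullback.fst f V'.hom) (cc f V') (cc_hom f V') ((EtCoh.bc f).map k)
    (cc f V' ≫ ((EtCoh.bc f).map k).left) (by rw [Category.assoc, BCCalc.left_hom, cc_hom]) rfl s).trans ?_
  exact (res_sec F (bm f k.left (Over.w k.hom)) (bm_fst f k.left (Over.w k.hom)) (cc f V) (cc_hom f V)
    _ _ (bm_cc f k) s).symm

end Groth.Agent.Lefpen.H916.EdgeC
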