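import Groth.Agent.Lefpen.H916.EdgeC

/-!
# The presheaf `V ↦ H^n(X ×_Y V, F)`: functoriality and connecting maps
-/

set_option autoImplicit false
universe u
open CategoryTheory CategoryTheory.Limits AlgebraicGeometry Opposite Abelian
open scoped Groth.Agent.Etcore.EtInst
open Groth.Agent.Etcore.EtInst

namespace Groth.Agent.Lefpen.H916.EdgeH

open Groth.Agent.Etcore Groth.Agent.Etcore.HQ Groth.Agent.Etcore.RpushLoc Groth.Agent.EtpbcA.StalkTools
open Groth.Agent.Lefpen.H916.Edge Groth.Agent.Lefpen.H916.EdgeC Groth.Agent.Lefpen.H916.KT Groth.Agent.Lefpen.H712.HT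
open Groth.Agent.EtpbcB

attribute [local instance] pfl

variable {X Y : Scheme.{u}} (f : X ⟶ Y) {F G : EtCoh.Ab X}

/-- A morphism of presheaves from a compatible family. -/
theorem exists_hom {P Q : Y.Etaleᵒᵖ ⥤ AddCommGrpCat.{u + 1}}
    (e : ∀ V : Y.Etale, (P.obj (op V) : Type (u + 1)) →+ (Q.obj (op V) : Type (u + 1)))
    (he : ∀ {V V' : Y.Etale} (k : V' ⟶ V) (x : P.obj (op V)),
      Q.map k.op (e V x) = e V' (P.map k.op x)) :
    ∃ a : P ⟶ Q, ∀ V x, a.app (op V) x = e V x :=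
  ⟨{ app := fun V => AddCommGrpCat.ofHom (e V.unop)
     naturality := fun {V V'} k => by
      ext x
      exact (he k.unop x).symm }, fun _ _ => rfl⟩

theorem exists_PTδ {S : ShortComplex (EtCoh.Ab X)} (hS : S.ShortExact) (n : ℕ) :
    ∃ d : PT f S.X₃ n ⟶ PT f S.X₁ (n + 1), ∀ (V : Y.Etale) (x : HT f S.X₃ V.hom n),
      d.app (op V) x = δ hS (pullback.fst f V.hom) n x := by
  obtain ⟨a, ha⟩ := exists_hom (P := PT f S.X₃ n) (Q := PT f S.X₁ (n + 1))
    (fun V => δ hS (pullback.fst f V.hom) n) (fun {V V'} k x =>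
      res_δ hS (bm f k.left (Over.w k.hom)) (bm_fst f _ _) n x)
  exact ⟨a, fun V x => ha V x⟩

theorem exists_PTmap (φ : F ⟶ G) (n : ℕ) : ∃ a : PT f F n ⟶ PT f G n,
    ∀ (V : Y.Etale) (x : HT f F V.hom n), a.app (op V) x = map φ (pullback.fst f V.hom) n x := by
  obtain ⟨a, ha⟩ := exists_hom (P := PT f F n) (Q := PT f G n)
    (fun V => map φ (pullback.fst f V.hom) n) (fun {V V'} k x =>
      res_map φ (bm f k.left (Over.w k.hom)) (bm_fst f _ _) n x)
  exact ⟨a, fun V x => ha V x⟩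

/-- Degree zero. -/
theorem exists_PT0 (F : EtCoh.Ab X) : ∃ a : ((EtCoh.push f).obj F).obj ⟶ PT f F 0,
    ∀ (V : Y.Etale) (s : EtCoh.sect F ((EtCoh.bc f).obj V)), a.app (op V) s = secT f F V s := by
  obtain ⟨a, ha⟩ := exists_hom (P := ((EtCoh.push f).obj F).obj) (Q := PT f F 0)
    (fun V => secT f F V) (fun {V V'} k s => (secT_nat f F k s).symm)
  exact ⟨a, fun V x => ha V x⟩

theorem isIso_of_bijective {P Q : Y.Etaleᵒᵖ ⥤ AddCommGrpCat.{u + 1}} (a : P ⟶ Q)
    (h : ∀ V : Y.Etale, Function.Bijective (a.app (op V))) : IsIso a := by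
  have : ∀ V, IsIso (a.app V) := fun V => (ConcreteCategory.isIso_iff_bijective _).2 (h V.unop)
  exact NatIso.isIso_of_isIso_app a

/-- The morphism of sections in degree zero is an isomorphism. -/
theorem exists_iso0 (F : EtCoh.Ab X) : ∃ i : ((EtCoh.push f).obj F).obj ≅ PT f F 0,
    ∀ (V : Y.Etale) (s : EtCoh.sect F ((EtCoh.bc f).obj V)), i.hom.app (op V) s = secT f F V s := by
  obtain ⟨a, ha⟩ := exists_PT0 f F
  have h1 : IsIso a := isIso_of_bijective a (fun V => by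
    have h2 : ⇑(ConcreteCategory.hom (a.app (op V))) = secT f F V := funext fun s => ha V s
    rw [h2]
    exact secT_bijective f F V)
  exact ⟨asIso a, ha⟩

end Groth.Agent.Lefpen.H916.EdgeH
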