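import Groth.Agent.Lefpen.H916.EdgeH

/-!
# The edge map `H^n(X ×_Y V, F) → Γ(V, R^n f_* F)`
-/

set_option autoImplicit false
universe u
open CategoryTheory CategoryTheory.Limits AlgebraicGeometry Opposite Abelian
open scoped Groth.Agent.Etcore.EtInst
open Groth.Agent.Etcore.EtInst

namespace Groth.Agent.Lefpen.H916.EdgeI

open Groth.Agent.Etcore Groth.Agent.Etcore.HQ Groth.Agent.Etcore.RpushLoc Groth.Agent.EtpbcA.StalkTools
open Groth.Agent.Lefpen.H916.Edge Groth.Agent.Lefpen.H916.EdgeC Groth.Agent.Lefpen.H916.EdgeH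
open Groth.Agent.Lefpen.H916.KT Groth.Agent.Lefpen.H712.HT

attribute [local instance] pfl

variable {X Y : Scheme.{u}} (f : X ⟶ Y)

theorem map_secT {F G : EtCoh.Ab X} (φ : F ⟶ G) (V : Y.Etale)
    (s : EtCoh.sect F ((EtCoh.bc f).obj V)) :
    map φ (pullback.fst f V.hom) 0 (secT f F V s) = secT f G V (φ.hom.app (op ((EtCoh.bc f).obj V)) s) :=
  map_sec φ (pullback.fst f V.hom) (cc f V) (cc_hom f V) s

variable {S : ShortComplex (EtCoh.Ab X)} (hS : S.ShortExact)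

include hS in
theorem facts_one (hI : Injective S.X₂) :
    ∃ (g : PT f S.X₂ 0 ⟶ PT f S.X₃ 0) (d : PT f S.X₃ 0 ⟶ PT f S.X₁ 1)
      (i₂ : PT f S.X₂ 0 ≅ ((EtCoh.push f).obj S.X₂).obj)
      (i₃ : PT f S.X₃ 0 ≅ ((EtCoh.push f).obj S.X₃).obj),
      g ≫ i₃.hom = i₂.hom ≫ ((EtCoh.push f).map S.g).hom ∧
      (∀ V : Y.Etale, Function.Surjective (d.app (op V))) ∧ g ≫ d = 0 ∧
      ∀ (V : Y.Etale) (y : (PT f S.X₃ 0).obj (op V)), d.app (op V) y = 0 →
        ∃ z, g.app (op V) z = y := by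
  obtain ⟨g, hg⟩ := exists_PTmap f S.g 0
  obtain ⟨d, hd⟩ := exists_PTδ f hS 0
  obtain ⟨i₂, hi₂⟩ := exists_iso0 f S.X₂
  obtain ⟨i₃, hi₃⟩ := exists_iso0 f S.X₃
  refine ⟨g, d, i₂.symm, i₃.symm, ?_, ?_, ?_, ?_⟩
  · change g ≫ i₃.inv = i₂.inv ≫ _
    rw [Iso.eq_inv_comp, ← Category.assoc, Iso.comp_inv_eq]
    ext V s
    have h1 : g.app V (i₂.hom.app V s) = map S.g (pullback.fst f V.unop.hom) 0 (secT f S.X₂ V.unop s) :=
      (congrArg (g.app V) (hi₂ V.unop s)).trans (hg V.unop _)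
    have h2 : i₃.hom.app V (((EtCoh.push f).map S.g).hom.app V s) =
      secT f S.X₃ V.unop (S.g.hom.app (op ((EtCoh.bc f).obj V.unop)) s) := hi₃ V.unop _
    exact h1.trans ((map_secT f S.g V.unop s).trans h2.symm)
  · intro V x
    obtain ⟨y, hy⟩ := exists_δ_eq hS (pullback.fst f V.hom) 0 x (eq_zero_of_injective S.X₂ _ 0 _)
    exact ⟨y, (hd V y).trans hy⟩
  · ext V x
    exact (congrArg (d.app V) (hg V.unop x)).trans ((hd V.unop _).trans (δ_map hS _ 0 x))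
  · intro V y hy
    obtain ⟨z, hz⟩ := exists_map_eq hS (pullback.fst f V.hom) 0 y ((hd V y).symm.trans hy)
    exact ⟨z, (hg V z).trans hz⟩

include hS in
theorem facts_succ (hI : Injective S.X₂) (n : ℕ) :
    Nonempty (PT f S.X₃ (n + 1) ≅ PT f S.X₁ (n + 1 + 1)) := by
  obtain ⟨d, hd⟩ := exists_PTδ f hS (n + 1)
  have h1 : IsIso d := by
    refine isIso_of_bijective d (fun V => ⟨?_, ?_⟩)
    · rw [injective_iff_map_eq_zero]
      intro y hy
      obtain ⟨z, hz⟩ := exists_map_eq hS (pullback.fst f V.hom) (n + 1) y ((hd V y).symm.trans hy)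
      have h0 : z = 0 := eq_zero_of_injective S.X₂ _ n z
      rw [h0, map_zero] at hz
      exact hz.symm
    · intro x
      obtain ⟨y, hy⟩ := exists_δ_eq hS (pullback.fst f V.hom) (n + 1) x
        (eq_zero_of_injective S.X₂ _ (n + 1) _)
      exact ⟨y, (hd V y).trans hy⟩
  exact ⟨asIso d⟩

end Groth.Agent.Lefpen.H916.EdgeI
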