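import Groth.Agent.Lefpen.H916.Edge

/-!
# Functors on `S`-schemes represented over an open subscheme by a finite étale cover

`LocRep K j`: over the étale `S'`-schemes (`j : S' ⟶ S` an open immersion) the presheaf `K` is, up to
local isomorphism, represented by a finite étale `E ⟶ S'`. If `K` commutes with the limits defining
the geometric points (`PtSurj`, `PtInj`), the geometric points of `E` are the elements of
`K (Spec Ω)`.
-/

set_option autoImplicit false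
universe u
open CategoryTheory CategoryTheory.Limits AlgebraicGeometry Opposite

namespace Groth.Agent.Lefpen.H916.Rep

variable {S : Scheme.{u}} (K : (Over S)ᵒᵖ ⥤ AddCommGrpCat.{u + 1})

/-- The value at an `S`-scheme. -/
abbrev KO {T : Scheme.{u}} (t : T ⟶ S) : AddCommGrpCat.{u + 1} := K.obj (op (Over.mk t))

/-- The restriction maps. -/
noncomputable def kr {T T' : Scheme.{u}} {t : T ⟶ S} {t' : T' ⟶ S} (φ : T' ⟶ T) (h : φ ≫ t = t') :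
    KO K t →+ KO K t' :=
  (K.map (Over.homMk (U := Over.mk t') (V := Over.mk t) φ h).op).hom

theorem kr_kr {T T' T'' : Scheme.{u}} {t : T ⟶ S} {t' : T' ⟶ S} {t'' : T'' ⟶ S} (φ : T' ⟶ T)
    (h : φ ≫ t = t') (ψ : T'' ⟶ T') (h' : ψ ≫ t' = t'') (χ : T'' ⟶ T) (e : ψ ≫ φ = χ)
    (h'' : χ ≫ t = t'') (x : KO K t) :
    kr K ψ h' (kr K φ h x) = kr K χ h'' x := by
  subst e
  have h1 : (Over.homMk (ψ ≫ φ) h'' : Over.mk t'' ⟶ Over.mk t) =
      (Over.homMk ψ h' : Over.mk t'' ⟶ Over.mk t') ≫ (Over.homMk φ h : Over.mk t' ⟶ Over.mk t) := by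
    ext; rfl
  unfold kr
  rw [h1, op_comp, K.map_comp]
  rfl

theorem kr_congr {T T' : Scheme.{u}} {t : T ⟶ S} {t' : T' ⟶ S} {φ φ' : T' ⟶ T} (e : φ = φ')
    (h : φ ≫ t = t') (h' : φ' ≫ t = t') (x : KO K t) : kr K φ h x = kr K φ' h' x := by
  subst e; rfl

theorem kr_id {T : Scheme.{u}} {t : T ⟶ S} (h : 𝟙 T ≫ t = t) (x : KO K t) : kr K (𝟙 T) h x = x := by
  have h1 : (Over.homMk (𝟙 T) h : Over.mk t ⟶ Over.mk t) = 𝟙 _ := by ext; rfl
  unfold kr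
  rw [h1, op_id, K.map_id]
  rfl

/-- Étale objects. -/
noncomputable abbrev mkE {T : Scheme.{u}} (f : T ⟶ S) [Etale f] : S.Etale :=
  MorphismProperty.Over.mk ⊤ f inferInstance

theorem etale_left {V V' : S.Etale} (k : V' ⟶ V) : Etale k.left := inferInstance

/-- Surjectivity at the geometric points. -/
def PtSurj : Prop :=
  ∀ (Ω : Type u) [Field Ω] [IsSepClosed Ω] (ξ : Spec (CommRingCat.of Ω) ⟶ S) (x : KO K ξ),
    ∃ (V : S.Etale) (v : Spec (CommRingCat.of Ω) ⟶ V.left) (h : v ≫ V.hom = ξ)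
      (y : KO K V.hom), kr K v h y = x

/-- Injectivity at the geometric points. -/
def PtInj : Prop :=
  ∀ (Ω : Type u) [Field Ω] [IsSepClosed Ω] (ξ : Spec (CommRingCat.of Ω) ⟶ S)
    (V : S.Etale) (v : Spec (CommRingCat.of Ω) ⟶ V.left) (h : v ≫ V.hom = ξ)
    (y : KO K V.hom), kr K v h y = 0 →
    ∃ (V' : S.Etale) (k : V' ⟶ V) (v' : Spec (CommRingCat.of Ω) ⟶ V'.left),
      v' ≫ k.left = v ∧ kr K k.left (Over.w k.hom) y = 0

/-- `K` is locally represented by a finite étale cover of `S'`. -/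
structure LocRep {S' : Scheme.{u}} (j : S' ⟶ S) where
  E : S'.Etale
  fin : IsFinite E.hom
  c : ∀ W : S'.Etale, KO K (W.hom ≫ j) → (W ⟶ E)
  nat : ∀ {W W' : S'.Etale} (k : W' ⟶ W) (h : k.left ≫ W.hom ≫ j = W'.hom ≫ j)
    (x : KO K (W.hom ≫ j)), c W' (kr K k.left h x) = k ≫ c W x
  inj : ∀ (W : S'.Etale) (x x' : KO K (W.hom ≫ j)), c W x = c W x' → ∀ w : W.left,
    ∃ (W' : S'.Etale) (k : W' ⟶ W) (w' : W'.left), k.left w' = w ∧
      ∀ h : k.left ≫ W.hom ≫ j = W'.hom ≫ j, kr K k.left h x = kr K k.left h x'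
  surj : ∀ (W : S'.Etale) (s : W ⟶ E) (w : W.left),
    ∃ (W' : S'.Etale) (k : W' ⟶ W) (w' : W'.left), k.left w' = w ∧
      ∃ x : KO K (W'.hom ≫ j), c W' x = k ≫ s
  mul : ∀ M : ℕ, ∃ μ : E ⟶ E, ∀ (W : S'.Etale) (x : KO K (W.hom ≫ j)), c W (M • x) = c W x ≫ μ

variable {K} {S' : Scheme.{u}} {j : S' ⟶ S} (r : LocRep K j)

/-- The point `e` of `E` corresponds to the class `z`. -/
def Rel {Ω : Type u} [Field Ω] [IsSepClosed Ω] (ξ : Spec (CommRingCat.of Ω) ⟶ S)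
    (e : Spec (CommRingCat.of Ω) ⟶ r.E.left) (z : KO K ξ) : Prop :=
  ∃ (W : S'.Etale) (w : Spec (CommRingCat.of Ω) ⟶ W.left) (h : w ≫ W.hom ≫ j = ξ)
    (x : KO K (W.hom ≫ j)), w ≫ (r.c W x).left = e ∧ kr K w h x = z

variable {r}

theorem over {Ω : Type u} [Field Ω] [IsSepClosed Ω] (ξ : Spec (CommRingCat.of Ω) ⟶ S)
    (e : Spec (CommRingCat.of Ω) ⟶ r.E.left) (z : KO K ξ) (h : Rel r ξ e z) :
    e ≫ r.E.hom ≫ j = ξ := by
  obtain ⟨W, w, h, x, rfl, -⟩ := h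
  have h1 : (r.c W x).left ≫ r.E.hom = W.hom := Over.w (r.c W x).hom
  rw [Category.assoc, reassoc_of% h1, h]

theorem rel_sec (W : S'.Etale) (x : KO K (W.hom ≫ j)) {Ω : Type u} [Field Ω] [IsSepClosed Ω]
    (w : Spec (CommRingCat.of Ω) ⟶ W.left) (ξ : Spec (CommRingCat.of Ω) ⟶ S)
    (h : w ≫ W.hom ≫ j = ξ) : Rel r ξ (w ≫ (r.c W x).left) (kr K w h x) :=
  ⟨W, w, h, x, rfl, rfl⟩

theorem nat {Ω : Type u} [Field Ω] [IsSepClosed Ω] {Ω' : Type u} [Field Ω'] [IsSepClosed Ω']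
    (φ : Spec (CommRingCat.of Ω') ⟶ Spec (CommRingCat.of Ω)) (ξ : Spec (CommRingCat.of Ω) ⟶ S)
    (e : Spec (CommRingCat.of Ω) ⟶ r.E.left) (z : KO K ξ) (h : Rel r ξ e z) :
    Rel r (φ ≫ ξ) (φ ≫ e) (kr K φ rfl z) := by
  obtain ⟨W, w, h, x, rfl, rfl⟩ := h
  refine ⟨W, φ ≫ w, by rw [Category.assoc, h], x, Category.assoc _ _ _, ?_⟩
  exact (kr_kr K w h φ rfl _ rfl _ x).symm

theorem mul (M : ℕ) : ∃ μ : r.E.left ⟶ r.E.left, μ ≫ r.E.hom = r.E.hom ∧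
    ∀ {Ω : Type u} [Field Ω] [IsSepClosed Ω] (ξ : Spec (CommRingCat.of Ω) ⟶ S)
      (e : Spec (CommRingCat.of Ω) ⟶ r.E.left) (z : KO K ξ), Rel r ξ e z →
      Rel r ξ (e ≫ μ) (M • z) := by
  obtain ⟨μ, hμ⟩ := r.mul M
  refine ⟨μ.left, Over.w μ.hom, ?_⟩
  intro Ω _ _ ξ e z h
  obtain ⟨W, w, h, x, rfl, rfl⟩ := h
  refine ⟨W, w, h, M • x, ?_, (kr K w h).map_nsmul M x⟩
  rw [hμ, Category.assoc]
  rfl

theorem exists_z {Ω : Type u} [Field Ω] [IsSepClosed Ω]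
    (e : Spec (CommRingCat.of Ω) ⟶ r.E.left) : ∃ z, Rel r (e ≫ r.E.hom ≫ j) e z := by
  obtain ⟨W', k, w', hw', x, hx⟩ := r.surj r.E (𝟙 _) (e default)
  have : Etale k.left := inferInstance
  obtain ⟨l, hl, -⟩ := Scheme.exists_fac_of_etale_of_isSepClosed k.left e w' hw'
  have h1 : k.left ≫ r.E.hom = W'.hom := Over.w k.hom
  have h2 : l ≫ W'.hom ≫ j = e ≫ r.E.hom ≫ j := by rw [← h1, Category.assoc, reassoc_of% hl]
  refine ⟨kr K l h2 x, W', l, h2, x, ?_, rfl⟩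
  rw [hx, Category.comp_id, hl]

/-- A point of an étale `S`-scheme landing in the open part. -/
theorem exists_restrict [IsOpenImmersion j] (V : S.Etale) {T : Scheme.{u}}
    (v : T ⟶ V.left) (ξ' : T ⟶ S') (h : v ≫ V.hom = ξ' ≫ j) :
    ∃ (W : S'.Etale) (q : W.left ⟶ V.left) (_ : q ≫ V.hom = W.hom ≫ j) (w : T ⟶ W.left),
      w ≫ q = v ∧ w ≫ W.hom = ξ' :=
  ⟨mkE (pullback.snd V.hom j), pullback.fst V.hom j, pullback.condition,
    pullback.lift v ξ' h, pullback.lift_fst _ _ _, pullback.lift_snd _ _ _⟩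

theorem exists_e [IsOpenImmersion j] (hK : PtSurj K) {Ω : Type u} [Field Ω] [IsSepClosed Ω]
    (ξ' : Spec (CommRingCat.of Ω) ⟶ S') (z : KO K (ξ' ≫ j)) : ∃ e, Rel r (ξ' ≫ j) e z := by
  obtain ⟨V, v, h, y, rfl⟩ := hK Ω (ξ' ≫ j) z
  obtain ⟨W, q, hq, w, rfl, hw⟩ := exists_restrict (j := j) V v ξ' h
  have h1 : w ≫ W.hom ≫ j = ξ' ≫ j := by rw [reassoc_of% hw]
  refine ⟨_, W, w, h1, kr K q hq y, rfl, ?_⟩
  exact kr_kr K q hq w h1 _ rfl h y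

theorem exists_common {Ω : Type u} [Field Ω] [IsSepClosed Ω] (W₁ W₂ : S'.Etale)
    (w₁ : Spec (CommRingCat.of Ω) ⟶ W₁.left) (w₂ : Spec (CommRingCat.of Ω) ⟶ W₂.left)
    (h : w₁ ≫ W₁.hom = w₂ ≫ W₂.hom) :
    ∃ (W : S'.Etale) (k₁ : W ⟶ W₁) (k₂ : W ⟶ W₂) (w : Spec (CommRingCat.of Ω) ⟶ W.left),
      w ≫ k₁.left = w₁ ∧ w ≫ k₂.left = w₂ := by
  refine ⟨mkE (pullback.fst W₁.hom W₂.hom ≫ W₁.hom),
    MorphismProperty.Over.homMk (pullback.fst W₁.hom W₂.hom) rfl,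
    MorphismProperty.Over.homMk (pullback.snd W₁.hom W₂.hom) pullback.condition.symm,
    pullback.lift w₁ w₂ h, pullback.lift_fst _ _ _, pullback.lift_snd _ _ _⟩

theorem exists_dies (hK : PtInj K) [IsOpenImmersion j] {Ω : Type u} [Field Ω] [IsSepClosed Ω]
    (W : S'.Etale) (ξ : Spec (CommRingCat.of Ω) ⟶ S) (w : Spec (CommRingCat.of Ω) ⟶ W.left)
    (h : w ≫ W.hom ≫ j = ξ) (x : KO K (W.hom ≫ j)) (hx : kr K w h x = 0) :
    ∃ (W' : S'.Etale) (k : W' ⟶ W) (w' : Spec (CommRingCat.of Ω) ⟶ W'.left),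
      w' ≫ k.left = w ∧ ∃ h : k.left ≫ W.hom ≫ j = W'.hom ≫ j, kr K k.left h x = 0 := by
  obtain ⟨V', k, v', hv', h6⟩ := hK Ω ξ (mkE (W.hom ≫ j)) w h x hx
  obtain ⟨q, hq⟩ : ∃ q : V'.left ⟶ W.left, q = k.left := ⟨k.left, rfl⟩
  have e4 : q ≫ W.hom ≫ j = V'.hom := by rw [hq]; exact Over.w k.hom
  have e6 : Etale q := by rw [hq]; exact etale_left k
  have e8 : Etale W.hom := inferInstance
  have e7 : Etale (q ≫ W.hom) := inferInstance
  have h9 : kr K q e4 x = 0 := by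
    rw [← h6]
    exact kr_congr K hq _ _ x
  refine ⟨mkE (q ≫ W.hom), MorphismProperty.Over.homMk q rfl, v', by rw [← hv', ← hq]; rfl, ?_⟩
  refine ⟨(Category.assoc _ _ _).symm, ?_⟩
  have h10 := kr_kr K q e4 (𝟙 V'.left)
    (by rw [← e4, Category.id_comp, Category.assoc] : 𝟙 V'.left ≫ V'.hom = (q ≫ W.hom) ≫ j) q
    (Category.id_comp _) (Category.assoc _ _ _).symm x
  refine h10.symm.trans ?_
  rw [h9]
  exact map_zero _

theorem unique_e [IsOpenImmersion j] (hK : PtInj K) {Ω : Type u} [Field Ω] [IsSepClosed Ω]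
    (ξ : Spec (CommRingCat.of Ω) ⟶ S) (e e' : Spec (CommRingCat.of Ω) ⟶ r.E.left) (z : KO K ξ)
    (h : Rel r ξ e z) (h' : Rel r ξ e' z) : e = e' := by
  obtain ⟨W₁, w₁, h₁, x₁, rfl, rfl⟩ := h
  obtain ⟨W₂, w₂, h₂, x₂, rfl, hz⟩ := h'
  have h3 : w₁ ≫ W₁.hom = w₂ ≫ W₂.hom := by
    rw [← cancel_mono j, Category.assoc, Category.assoc, h₁, h₂]
  obtain ⟨W, k₁, k₂, w, rfl, rfl⟩ := exists_common W₁ W₂ w₁ w₂ h3
  have e1 : k₁.left ≫ W₁.hom ≫ j = W.hom ≫ j := by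
    rw [← Category.assoc]; exact congrArg (· ≫ j) (Over.w k₁.hom)
  have e2 : k₂.left ≫ W₂.hom ≫ j = W.hom ≫ j := by
    rw [← Category.assoc]; exact congrArg (· ≫ j) (Over.w k₂.hom)
  have e3 : w ≫ W.hom ≫ j = ξ := by rw [← e1, ← Category.assoc, h₁]
  have h5 : kr K w e3 (kr K k₁.left e1 x₁ - kr K k₂.left e2 x₂) = 0 := by
    rw [map_sub, kr_kr K k₁.left e1 w e3 _ rfl h₁ x₁, kr_kr K k₂.left e2 w e3 _ rfl h₂ x₂, hz,
      sub_self]
  obtain ⟨W', k, w', hw', h6⟩ := exists_dies hK W ξ w e3 _ h5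
  have h7 : kr K k.left h6.1 (kr K k₁.left e1 x₁) = kr K k.left h6.1 (kr K k₂.left e2 x₂) := by
    have h8 := h6.2
    rwa [map_sub, sub_eq_zero] at h8
  have a1 := r.nat k h6.1 (kr K k₁.left e1 x₁)
  have a2 := r.nat k h6.1 (kr K k₂.left e2 x₂)
  have b1 := r.nat k₁ e1 x₁
  have b2 := r.nat k₂ e2 x₂
  have c1 : (k ≫ k₁ ≫ r.c W₁ x₁) = k ≫ k₂ ≫ r.c W₂ x₂ := by
    rw [← b1, ← b2, ← a1, ← a2, h7]
  have c2 : w' ≫ k.left ≫ k₁.left ≫ (r.c W₁ x₁).left = w' ≫ k.left ≫ k₂.left ≫ (r.c W₂ x₂).left :=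
    congrArg (fun t => w' ≫ t.left) c1
  rw [Category.assoc, Category.assoc, ← hw', Category.assoc, Category.assoc, c2]

/-- Two sections of an étale morphism which agree at a point agree on a neighbourhood. -/
theorem exists_eq_aux {E B W : Scheme.{u}} (f : E ⟶ B) [Etale f] (s₁ s₂ : W ⟶ E)
    (hs : s₁ ≫ f = s₂ ≫ f) {T : Scheme.{u}} (w : T ⟶ W) (h : w ≫ s₁ = w ≫ s₂) :
    ∃ (W' : Scheme.{u}) (i : W' ⟶ W) (_ : IsOpenImmersion i) (w' : T ⟶ W'), w' ≫ i = w ∧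
      i ≫ s₁ = i ≫ s₂ := by
  obtain ⟨l, hl₁, hl₂⟩ : ∃ l : W ⟶ pullback f f, l ≫ pullback.fst f f = s₁ ∧
      l ≫ pullback.snd f f = s₂ :=
    ⟨pullback.lift s₁ s₂ hs, pullback.lift_fst _ _ _, pullback.lift_snd _ _ _⟩
  have e1 : IsOpenImmersion (pullback.diagonal f) := inferInstance
  have e3 : pullback.fst l (pullback.diagonal f) ≫ s₁ = pullback.snd l (pullback.diagonal f) := by
    rw [← hl₁, pullback.condition_assoc, pullback.diagonal_fst, Category.comp_id]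
  have e4 : pullback.fst l (pullback.diagonal f) ≫ s₂ = pullback.snd l (pullback.diagonal f) := by
    rw [← hl₂, pullback.condition_assoc, pullback.diagonal_snd, Category.comp_id]
  refine ⟨pullback l (pullback.diagonal f), pullback.fst _ _, inferInstance,
    pullback.lift w (w ≫ s₁) ?_, pullback.lift_fst _ _ _, e3.trans e4.symm⟩
  apply pullback.hom_ext
  · rw [Category.assoc, Category.assoc, pullback.diagonal_fst, hl₁, Category.comp_id]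
  · rw [Category.assoc, Category.assoc, pullback.diagonal_snd, hl₂, Category.comp_id, h]

/-- Two sections of `E` which agree at a geometric point agree on an étale neighbourhood. -/
theorem exists_eq {E W : S'.Etale} (s₁ s₂ : W ⟶ E) {T : Scheme.{u}} (w : T ⟶ W.left)
    (h : w ≫ s₁.left = w ≫ s₂.left) :
    ∃ (W' : S'.Etale) (k : W' ⟶ W) (w' : T ⟶ W'.left), w' ≫ k.left = w ∧ k ≫ s₁ = k ≫ s₂ := by
  have hs₁ : s₁.left ≫ E.hom = W.hom := Over.w s₁.hom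
  have hs₂ : s₂.left ≫ E.hom = W.hom := Over.w s₂.hom
  have e6 : Etale E.hom := inferInstance
  obtain ⟨W', i, hi, w', hw', h1⟩ := exists_eq_aux E.hom s₁.left s₂.left (hs₁.trans hs₂.symm) w h
  have e5 : Etale W.hom := inferInstance
  refine ⟨mkE (i ≫ W.hom), MorphismProperty.Over.homMk i rfl, w', hw', ?_⟩
  exact MorphismProperty.Over.Hom.ext h1

theorem unique_z {Ω : Type u} [Field Ω] [IsSepClosed Ω] [Mono j]
    (ξ : Spec (CommRingCat.of Ω) ⟶ S) (e : Spec (CommRingCat.of Ω) ⟶ r.E.left) (z z' : KO K ξ)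
    (h : Rel r ξ e z) (h' : Rel r ξ e z') : z = z' := by
  obtain ⟨W₁, w₁, h₁, x₁, rfl, rfl⟩ := h
  obtain ⟨W₂, w₂, h₂, x₂, he, rfl⟩ := h'
  have h3 : w₁ ≫ W₁.hom = w₂ ≫ W₂.hom := by
    rw [← cancel_mono j, Category.assoc, Category.assoc, h₁, h₂]
  obtain ⟨W, k₁, k₂, w, rfl, rfl⟩ := exists_common W₁ W₂ w₁ w₂ h3
  obtain ⟨W', k, w', rfl, h4⟩ := exists_eq (k₂ ≫ r.c W₂ x₂) (k₁ ≫ r.c W₁ x₁) w
    ((Category.assoc _ _ _).symm.trans (he.trans (Category.assoc _ _ _)))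
  have e1 : (k ≫ k₁).left ≫ W₁.hom ≫ j = W'.hom ≫ j := by
    rw [← Category.assoc]; exact congrArg (· ≫ j) (Over.w (k ≫ k₁).hom)
  have e2 : (k ≫ k₂).left ≫ W₂.hom ≫ j = W'.hom ≫ j := by
    rw [← Category.assoc]; exact congrArg (· ≫ j) (Over.w (k ≫ k₂).hom)
  have b1 := r.nat (k ≫ k₁) e1 x₁
  have b2 := r.nat (k ≫ k₂) e2 x₂
  have b3 : r.c W' (kr K (k ≫ k₁).left e1 x₁) = r.c W' (kr K (k ≫ k₂).left e2 x₂) := by
    rw [b1, b2, Category.assoc, Category.assoc, h4]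
  obtain ⟨W'', l, u, hu, h5⟩ := r.inj W' _ _ b3 (w' default)
  have e3 : Etale l.left := etale_left l
  obtain ⟨w'', rfl, -⟩ := Scheme.exists_fac_of_etale_of_isSepClosed l.left w' u hu
  have e4 : l.left ≫ W'.hom ≫ j = W''.hom ≫ j := by
    rw [← Category.assoc]; exact congrArg (· ≫ j) (Over.w l.hom)
  have h6 := h5 e4
  have e5 : w'' ≫ W''.hom ≫ j = ξ := by
    rw [← e4, ← e1, ← h₁]
    simp only [Category.assoc]
    rfl
  have h7 := congrArg (kr K w'' e5) h6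
  have e6 : (w'' ≫ l.left) ≫ W'.hom ≫ j = ξ := by rw [Category.assoc, e4, e5]
  rw [kr_kr K l.left e4 w'' e5 _ rfl e6, kr_kr K l.left e4 w'' e5 _ rfl e6] at h7
  have c1 := kr_kr K (k ≫ k₁).left e1 (w'' ≫ l.left) e6 (((w'' ≫ l.left) ≫ k.left) ≫ k₁.left)
    (Category.assoc _ _ _).symm h₁ x₁
  have c2 := kr_kr K (k ≫ k₂).left e2 (w'' ≫ l.left) e6 (((w'' ≫ l.left) ≫ k.left) ≫ k₂.left)
    (Category.assoc _ _ _).symm h₂ x₂
  exact c1.symm.trans (h7.trans c2)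

end Groth.Agent.Lefpen.H916.Rep
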