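import Groth.Agent.Lefpen.H916.Rep
import Groth.Agent.Lefpen.H916.KT
import Groth.Agent.Lefpen.H916.ThetaDef

/-!
# `Theta` from a local representation
-/

set_option autoImplicit false
universe u
open CategoryTheory CategoryTheory.Limits AlgebraicGeometry Opposite
open Groth.Agent.Lefpen.H712.HT

namespace Groth.Agent.Lefpen.H916.ThetaA

open Groth.Agent.Lefpen.H916.Rep Groth.Agent.Lefpen.H916.KT Groth.Agent.Lefpen.H916.ThetaDef

theorem kr_KT {S Y : Scheme.{u}} (g : Y ⟶ S) (F : EtCoh.Ab Y) (q : ℕ)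
    {T T' : Scheme.{u}} {t : T ⟶ S} {t' : T' ⟶ S} (φ : T' ⟶ T) (h : φ ≫ t = t')
    (x : HT g F t q) : kr (KT g F q) φ h x = rs g F φ h q x := rfl

theorem isStrictlyHenselian_field (Ω : Type u) [Field Ω] [IsSepClosed Ω] :
    EtCoh.IsStrictlyHenselianLocalRing Ω := by
  refine ⟨inferInstance, ?_⟩
  let φ : Ω ≃+* IsLocalRing.ResidueField Ω := RingEquiv.ofBijective (IsLocalRing.residue Ω)
    ⟨(IsLocalRing.residue Ω).injective, IsLocalRing.residue_surjective⟩
  refine IsSepClosed.of_exists_root _ fun p _ hirr hsep => ?_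
  obtain ⟨x, hx⟩ := IsSepClosed.exists_root (p.map (φ.symm : IsLocalRing.ResidueField Ω →+* Ω))
    (by rw [Polynomial.degree_map]; exact hirr.degree_pos.ne') (hsep.map)
  refine ⟨φ x, ?_⟩
  have h1 : (φ.symm : IsLocalRing.ResidueField Ω →+* Ω) (p.eval (φ x)) = 0 := by
    rw [← Polynomial.eval_map_apply]
    simpa using hx
  exact (map_eq_zero_iff _ φ.symm.injective).mp h1

theorem ptSurj {S Y : Scheme.{u}} (g : Y ⟶ S) (F : EtCoh.Ab Y) (q : ℕ) (h : NbSurj g F q) :
    PtSurj (KT g F q) := by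
  intro Ω _ _ ξ x
  exact h Ω (isStrictlyHenselian_field Ω) ξ x

theorem ptInj {S Y : Scheme.{u}} (g : Y ⟶ S) (F : EtCoh.Ab Y) (q : ℕ) (h : NbInj g F q) :
    PtInj (KT g F q) := by
  intro Ω _ _ ξ V v hv y hy
  exact h Ω (isStrictlyHenselian_field Ω) ξ V v hv y hy

theorem nonempty_theta {S Y : Scheme.{u}} (g : Y ⟶ S) (F : EtCoh.Ab Y) (q : ℕ) (U : S.Opens)
    (r : LocRep (KT g F q) U.ι) (h₁ : NbSurj g F q) (h₂ : NbInj g F q) :
    Nonempty (Theta g F q U) := by
  have p₁ := ptSurj g F q h₁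
  have p₂ := ptInj g F q h₂
  refine ⟨{
    E := r.E.left
    p := r.E.hom
    isFinite := r.fin
    etale := inferInstance
    rel := fun ξ e z => Rel r ξ e z
    over := fun ξ e z h => over ξ e z h
    exists_e := ?_
    exists_z := fun e => exists_z e
    unique_e := fun ξ e e' z h h' => unique_e p₂ ξ e e' z h h'
    unique_z := fun ξ e z z' h h' => unique_z ξ e z z' h h'
    nat := fun φ ξ e z h => nat φ ξ e z h
    sec := ?_
    mul := fun M => mul M }⟩
  · intro Ω _ _ ξ hξ z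
    obtain ⟨ξ', rfl⟩ : ∃ ξ' : Spec (CommRingCat.of Ω) ⟶ U, ξ' ≫ U.ι = ξ := by
      refine ⟨IsOpenImmersion.lift U.ι ξ ?_, IsOpenImmersion.lift_fac _ _ _⟩
      rintro _ ⟨x, rfl⟩
      rw [Subsingleton.elim x default]
      simpa using hξ
    exact exists_e p₁ ξ' z
  · intro V b hb x
    have e1 : Etale (b ≫ U.ι) := by rw [hb]; infer_instance
    have e2 : Etale b := Etale.of_comp b U.ι
    have hb' : 𝟙 V.left ≫ V.hom = b ≫ U.ι := by rw [hb, Category.id_comp]
    let W : (U : Scheme.{u}).Etale := mkE b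
    let x' : KO (KT g F q) (W.hom ≫ U.ι) := rs g F (𝟙 V.left) hb' q x
    refine ⟨(r.c W x').left, Over.w (r.c W x').hom, ?_⟩
    intro Ω _ _ v
    have hv : v ≫ W.hom ≫ U.ι = v ≫ V.hom := congrArg (v ≫ ·) hb
    have h3 : rs g F v rfl q x = kr (KT g F q) v hv x' :=
      (rs_rs g F (𝟙 V.left) hb' v hv v (Category.comp_id _) rfl q x).symm
    rw [h3]
    exact rel_sec (r := r) W x' v (v ≫ V.hom) hv

end Groth.Agent.Lefpen.H916.ThetaA
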